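import Groth.Agent.S1438
import Groth.Agent.H7Flat.CohDim.AffineStrat
import Groth.Agent.H17.Ample.GenAffine
import Groth.Agent.H11Ample.Converse
import Groth.Agent.H10Coh.Pn.HyperPn
import Groth.Agent.H02CA.VBPn.SerreSeq
import Groth.Agent.H02CA.BlowPts.GeomS
import Groth.Agent.H15Site.Invertible
import Groth.Agent.H25Euler.ParSh
import Groth.Agent.H29RR.PnPic
import Groth.Agent.H06Mod.StalkFinite

/-!
# Loci where a map of twisting sheaves is onto
-/

set_option autoImplicit false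
set_option linter.style.haveILetI false
set_option maxHeartbeats 1000000
universe u

open CategoryTheory CategoryTheory.Limits AlgebraicGeometry Opposite TopologicalSpace
open Groth.Agent

namespace Groth.Agent.H02CA.CI

attribute [local instance 10000] H10Coh.hasSheafifyAb H10Coh.hasWeakSheafifyAb H10Coh.hasExtAb H10Coh.enoughInjAb
attribute [local instance] H29RR.PnPic.overSpec

variable {k : Type u} [Field k] {n : ℕ}

/-- Projective space of dimension at least three is not covered by three affines. -/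
theorem exists_notMem_three (hn : 3 ≤ n) (U : Fin 3 → (CohB1.ProjSpace n k).Opens) (hU : ∀ i, IsAffineOpen (U i)) :
    ∃ x, ∀ i, x ∉ U i := by
  by_contra hc
  push Not at hc
  haveI : (CohB1.ProjSpace n k).IsSeparated :=
    inferInstanceAs (Scheme.IsSeparated (Proj (CohB1.polyGrading n k)))
  have hstr := S1438.result (CohB1.ProjSpace n k) 2 U hU (eq_top_iff.2 fun x _ => Opens.mem_iSup.2 (hc x))
  have hT := H10Coh.Stab.isTwistFamily_projSpace n k
  haveI := H7Flat.CohDim.subsingleton_HH_above 2 _ hstr (Twist.twistProjSpace n k (-((n : ℤ) + 1)))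
    (H8Props.FinLocFree.isQCoh_of_isFinLocFree _ (H28Pinch.isFinLocFree_of_isInvertible (hT.inv _))) n (by omega)
  have h := (H10Coh.Hyper.finrank_top (F := k) (N := n) (by omega) (-((n : ℤ) + 1))).2
  rw [Module.finrank_zero_of_subsingleton, show (-(-((n : ℤ) + 1)) - 1).toNat = n by omega, Nat.choose_self] at h
  exact zero_ne_one h

theorem mem_gen_of_surjective {X : Scheme.{u}} {M : X.Modules} (hM : PicF.IsInvertible M)
    (φ : Coh.structureModule X ⟶ M) (x : X) (hs : Function.Surjective (RefHull.stalkMapₗ φ x)) :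
    x ∈ H11Ample.gen M (φ.app ⊤ (1 : Γ(X, ⊤))) := by
  obtain ⟨V, e, hxV, he⟩ := H11Ample.exists_gen hM x
  rw [H11Ample.mem_gen_iff hM]
  obtain ⟨c, hc⟩ := (he x hxV).2 (M.presheaf.germ ⊤ x trivial (φ.app ⊤ (1 : Γ(X, ⊤))))
  obtain ⟨v, hv⟩ := hs (M.presheaf.germ V x hxV e)
  obtain ⟨W, hxW, r, rfl⟩ := TopCat.Presheaf.exists_germ_eq (Coh.structureModule X).presheaf v
  rw [RefHull.stalkMapₗ_germ, H06Mod.app_unit φ W r, H06Mod.germ_smul, TopCat.Presheaf.germ_res_apply] at hv
  beta_reduce at hc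
  rw [← hc] at hv ⊢
  have hrc : X.presheaf.germ W x hxW r * c = 1 :=
    (he x hxV).1 (show _ • _ = (1 : X.presheaf.stalk x) • _ by rw [mul_smul, one_smul]; exact hv)
  constructor
  · intro a b hab
    beta_reduce at hab
    rw [smul_smul, smul_smul] at hab
    have h1 := congrArg (fun z => z * X.presheaf.germ W x hxW r) ((he x hxV).1 hab)
    simpa [mul_assoc, mul_comm c, hrc] using h1
  · intro z
    obtain ⟨d, rfl⟩ := (he x hxV).2 z
    refine ⟨d * X.presheaf.germ W x hxW r, ?_⟩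
    beta_reduce
    rw [smul_smul, mul_assoc, hrc, mul_one]

theorem surjective_tensor_stalk {X : Scheme.{u}} (A : X.Modules) {M N : X.Modules} (θ : M ⟶ N) (x : X)
    (hs : Function.Surjective (RefHull.stalkMapₗ θ x)) :
    Function.Surjective (RefHull.stalkMapₗ (((DCoh.tensorBi (X := X)).obj A).map θ) x) := by
  let Φ := DerSch.stalkFunctor X x
  haveI : Epi (Φ.map θ) := (ModuleCat.epi_iff_surjective (Φ.map θ)).2 hs
  let e := H16Derived.KFlat.Stalk.leftIso A x
  have h : Epi ((((DCoh.tensorBi (X := X)).obj A) ⋙ Φ).map θ) :=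
    ((MorphismProperty.epimorphisms _).arrow_mk_iso_iff (Arrow.isoMk (e.app M) (e.app N) (e.hom.naturality θ).symm)).2
      ((ModuleCat.epi_iff_surjective _).2 (LinearMap.lTensor_surjective (A.presheaf.stalk x) hs))
  exact (ModuleCat.epi_iff_surjective (Φ.map (((DCoh.tensorBi (X := X)).obj A).map θ))).1 h

/-- A map in a twist family is an isomorphism or is onto only on an affine open. -/
theorem isIso_or_affine_aux [IsAlgClosed k] {X : Scheme.{u}} [IsIntegral X] (f : X ⟶ Spec (CommRingCat.of k))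
    [IsProper f] {O : ℤ → X.Modules} (hT : H10Coh.Stab.IsTwistFamily O) (hA : CohB1.IsAmple (O 1))
    (hneg : ∀ d < 0, Subsingleton (Coh.HH X (O d) 0)) {m e : ℤ} (θ : O m ⟶ O e) :
    IsIso θ ∨ ∃ U : X.Opens, IsAffineOpen U ∧ ∀ x, Function.Surjective (RefHull.stalkMapₗ θ x) → x ∈ U := by
  obtain ⟨e₀⟩ : Nonempty (CohB1.tensorMod (O (-m)) (O m) ≅ Coh.structureModule X) :=
    let ⟨a⟩ := hT.add (-m) m; let ⟨b⟩ := hT.zero; ⟨a ≪≫ eqToIso (congrArg O (by omega)) ≪≫ b⟩
  obtain ⟨e₁⟩ : Nonempty (CohB1.tensorMod (O (-m)) (O e) ≅ O (e - m)) :=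
    let ⟨a⟩ := hT.add (-m) e; ⟨a ≪≫ eqToIso (congrArg O (by omega))⟩
  let T := (DCoh.tensorBi (X := X)).obj (O (-m))
  haveI : T.IsEquivalence := H15Site.Invertible.isEquivalence_of_iso_unit (O := X.sheaf) e₀
  let φ : Coh.structureModule _ ⟶ O (e - m) := e₀.inv ≫ T.map θ ≫ e₁.hom
  let t : Γ(O (e - m), ⊤) := φ.app ⊤ (1 : Γ(X, ⊤))
  have hφ : ∀ x, Function.Surjective (RefHull.stalkMapₗ θ x) → x ∈ H11Ample.gen (O (e - m)) t := fun x hx => by
    refine mem_gen_of_surjective (hT.inv _) φ x fun z => ?_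
    haveI : IsIso ((DerSch.stalkFunctor _ x).map e₁.hom) := inferInstance
    obtain ⟨z₁, rfl⟩ := (ConcreteCategory.bijective_of_isIso ((DerSch.stalkFunctor _ x).map e₁.hom)).2 z
    obtain ⟨z₂, rfl⟩ := surjective_tensor_stalk (O (-m)) θ x hx z₁
    obtain ⟨z₃, rfl⟩ := (ConcreteCategory.bijective_of_isIso ((DerSch.stalkFunctor _ x).map e₀.inv)).2 z₂
    exact ⟨z₃, by rw [H29Ref.stalkMapₗ_comp_apply, H29Ref.stalkMapₗ_comp_apply]; rfl⟩
  rcases lt_trichotomy (e - m) 0 with hd | hd | hd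
  · refine Or.inr ⟨⊥, isAffineOpen_bot _, fun x hx => (?_ : False).elim⟩
    have hsub := hneg (e - m) hd
    haveI : Subsingleton Γ(O (e - m), ⊤) :=
      haveI := hsub
      ((H10Coh.HHEquiv (O (e - m)) 0).trans (H10Coh.H0Equiv (H10Coh.sh (O (e - m))) (⊤ : X.Opens))).symm.toEquiv.subsingleton
    have hx' := hφ x hx
    rw [H11Ample.mem_gen_iff (hT.inv _), Subsingleton.elim t 0, map_zero] at hx'
    exact zero_ne_one (hx'.1 (a₁ := 0) (a₂ := 1) (by simp))
  · obtain ⟨b⟩ := hT.zero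
    let ψ : Coh.structureModule X ⟶ Coh.structureModule X :=
      φ ≫ (eqToIso (congrArg O hd) ≪≫ b).hom
    obtain ⟨c, hc⟩ := (BlowPts.bijective_const f).2
      (show Γ(X, ⊤) from ψ.app ⊤ (1 : Γ(X, ⊤)))
    by_cases hc0 : c = 0
    · refine Or.inr ⟨⊥, isAffineOpen_bot _, fun x hx => (?_ : False).elim⟩
      subst hc0
      rw [map_zero] at hc
      have ht : t = 0 := by
        haveI := Scheme.Modules.Hom.isIso_iff_isIso_app.mp
          (inferInstance : IsIso (eqToIso (congrArg O hd) ≪≫ b).hom) (⊤ : X.Opens)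
        refine (ConcreteCategory.bijective_of_isIso ((eqToIso (congrArg O hd) ≪≫ b).hom.app ⊤)).1 ?_
        refine Eq.trans ?_ (map_zero _).symm
        exact hc.symm
      have hx' := hφ x hx
      rw [H11Ample.mem_gen_iff (hT.inv _), ht, map_zero] at hx'
      exact zero_ne_one (hx'.1 (a₁ := 0) (a₂ := 1) (by simp))
    · left
      have hu : IsUnit (show Γ(X, ⊤) from ψ.app ⊤ (1 : Γ(X, ⊤))) :=
        hc ▸ (IsUnit.mk0 c hc0).map _
      haveI : IsIso ψ := by
        refine Scheme.Modules.Hom.isIso_iff_isIso_app.mpr fun W => (ConcreteCategory.isIso_iff_bijective _).2 ?_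
        have hW := hu.map (X.presheaf.map (homOfLE (le_top : W ≤ ⊤)).op).hom
        have key : Function.Bijective fun r : Γ(X, W) => r * X.presheaf.map (homOfLE (le_top : W ≤ ⊤)).op
            (show Γ(X, ⊤) from ψ.app ⊤ (1 : Γ(X, ⊤))) :=
          ⟨fun a b h => hW.mul_right_cancel h, fun z => ⟨z * ↑hW.unit⁻¹, by
            beta_reduce
            rw [mul_assoc]
            exact (congrArg (z * ·) hW.val_inv_mul).trans (mul_one z)⟩⟩
        refine ⟨fun a b h => key.1 ((H06Mod.app_unit ψ W a).symm.trans (h.trans (H06Mod.app_unit ψ W b))), fun z => ?_⟩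
        obtain ⟨r, hr⟩ := key.2 z
        exact ⟨r, (H06Mod.app_unit ψ W r).trans hr⟩
      haveI : IsIso φ := IsIso.of_isIso_comp_right φ (eqToIso (congrArg O hd) ≪≫ b).hom
      haveI : IsIso (T.map θ ≫ e₁.hom) := IsIso.of_isIso_comp_left e₀.inv _
      haveI : IsIso (T.map θ) := IsIso.of_isIso_comp_right _ e₁.hom
      exact isIso_of_reflects_iso θ T
  · refine Or.inr ⟨_, ?_, hφ⟩
    obtain ⟨d, hd'⟩ : ∃ d : ℕ, e - m = (d : ℤ) := ⟨(e - m).toNat, by omega⟩
    obtain ⟨i⟩ := hT.nonempty_tensorPow d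
    have hAd : CohB1.IsAmple (O (e - m)) := H11Ample.isAmple_of_iso (i ≪≫ eqToIso (congrArg O hd'.symm))
      ((H11Ample.isAmple_tensorPow_iff (hT.inv 1) d (by omega)).1 hA)
    exact H17.GenAffine.isAffineOpen_gen f hAd t

/-- A map of twisting sheaves is an isomorphism or is onto only on an affine open. -/
theorem isIso_or_affine [IsAlgClosed k] (hn : 1 ≤ n) {m e : ℤ}
    (θ : Twist.twistProjSpace n k m ⟶ Twist.twistProjSpace n k e) :
    IsIso θ ∨ ∃ U : (CohB1.ProjSpace n k).Opens, IsAffineOpen U ∧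
      ∀ x, Function.Surjective (RefHull.stalkMapₗ θ x) → x ∈ U := by
  haveI : IsProper (CohB1.ProjSpace.toSpec n k) := H27Weil.isProper_toSpec n k
  haveI : IsIntegral (CohB1.ProjSpace n k) := H10Coh.Hyper.isIntegral_pn (F := k) n
  exact isIso_or_affine_aux (O := fun a => Twist.twistProjSpace n k a) (CohB1.ProjSpace.toSpec n k)
    (H10Coh.Stab.isTwistFamily_projSpace n k) (H11Ample.isAmple_twistProjSpace n k)
    (fun d hd => (VBPn.subsingleton_h0_twist_iff (k := k) (n := n) (by omega) d).2 hd) θ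

end Groth.Agent.H02CA.CI
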