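import Groth.Agent.H02CA.CI.Forms
import Groth.Agent.H06Mod.StalkExact
import Groth.Agent.H10Coh.AffineAmple
import Groth.Agent.H16Derived.KFlat.StrictPerfCone
import Groth.Agent.H25Par.Rank
import Groth.Agent.H29RR.Degree
import Groth.Agent.H29Ref.ClassMap
import Groth.Agent.LeadPic.PnPic
import Groth.Agent.H02CA.VBPn.Extend
import Groth.Agent.H02CA.Tango.StalkSum

/-!
# Rank two bundles covered by three line bundles
-/

set_option autoImplicit false
set_option linter.style.haveILetI false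
set_option maxHeartbeats 1000000
universe u

open CategoryTheory CategoryTheory.Limits AlgebraicGeometry Opposite TopologicalSpace
open Groth.Agent
open Groth.Agent.H06Mod (stalkLin stalk_exact stalk_surjective stalk_injective)

namespace Groth.Agent.H02CA.CI

attribute [local instance 10000] H10Coh.hasSheafifyAb H10Coh.hasWeakSheafifyAb H10Coh.hasExtAb H10Coh.enoughInjAb
attribute [local instance] H29RR.PnPic.overSpec

variable {X : Scheme.{u}}

theorem finrank_mid {S : ShortComplex X.Modules} (hS : S.ShortExact) (x : X)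
    [Module.Free (X.presheaf.stalk x) (S.X₁.presheaf.stalk x)] [Module.Finite (X.presheaf.stalk x) (S.X₁.presheaf.stalk x)]
    [Module.Free (X.presheaf.stalk x) (S.X₃.presheaf.stalk x)] [Module.Finite (X.presheaf.stalk x) (S.X₃.presheaf.stalk x)] :
    Module.finrank (X.presheaf.stalk x) (S.X₂.presheaf.stalk x) =
      Module.finrank (X.presheaf.stalk x) (S.X₁.presheaf.stalk x) +
        Module.finrank (X.presheaf.stalk x) (S.X₃.presheaf.stalk x) := by
  obtain ⟨s, hs⟩ := Module.projective_lifting_property (stalkLin S.g x) LinearMap.id (stalk_surjective _ hS x)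
  obtain ⟨e, -, -⟩ := (((stalk_exact _ hS x).split_tfae (stalk_injective _ hS x) (stalk_surjective _ hS x)).out 0 2).1
    (⟨s, hs⟩ : ∃ l, stalkLin S.g x ∘ₗ l = LinearMap.id)
  rw [e.finrank_eq, Module.finrank_prod]

theorem nonempty_iso_of_component {A B C M E : X.Modules} {f : A ⟶ M} {q : M ⟶ E} {w : f ≫ q = 0}
    (hS : (ShortComplex.mk f q w).ShortExact) (d : M ≅ B ⊞ C) [IsIso (f ≫ d.hom ≫ biprod.fst)] :
    Nonempty (C ≅ E) := by
  haveI : Epi q := hS.epi_g
  let g := biprod.inr ≫ d.inv ≫ q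
  haveI : Mono g := Preadditive.mono_of_cancel_zero _ fun {T} z hz => by
    obtain ⟨y, hy⟩ : ∃ y, y ≫ f = z ≫ biprod.inr ≫ d.inv :=
      haveI := hS.mono_f
      ⟨hS.exact.lift (z ≫ biprod.inr ≫ d.inv) (by simpa [g] using hz), hS.exact.lift_f _ _⟩
    have hy0 : y ≫ f ≫ d.hom ≫ biprod.fst = 0 := by
      rw [← Category.assoc y f, hy]
      simp
    have : y = 0 := by
      rw [← cancel_mono (f ≫ d.hom ≫ biprod.fst), zero_comp]
      exact hy0
    rw [this, zero_comp] at hy
    have h2 := congrArg (fun t => t ≫ d.hom ≫ biprod.snd) hy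
    simpa using h2.symm
  haveI : Epi g := Preadditive.epi_of_cancel_zero _ fun {T} z hz => by
    let v := d.inv ≫ q ≫ z
    have hv : v = biprod.fst ≫ (biprod.inl ≫ v) := biprod.hom_ext' _ _ (by simp) (by simpa [g, v] using hz)
    have h1 : f ≫ d.hom ≫ v = 0 := by simp [v, reassoc_of% w]
    rw [hv, ← Category.assoc d.hom, ← Category.assoc f] at h1
    have h2 : biprod.inl ≫ v = 0 := by
      rw [← cancel_epi (f ≫ d.hom ≫ biprod.fst), comp_zero]
      exact h1
    rw [h2, comp_zero] at hv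
    have h3 : q ≫ z = 0 := by
      rw [← cancel_epi d.inv, comp_zero]
      exact hv
    rwa [← cancel_epi q, comp_zero]
  haveI : IsIso g := isIso_of_mono_of_epi g
  exact ⟨asIso g⟩

theorem coeff_of_not_surjective {L M : X.Modules} (hM : PicF.IsInvertible M) (θ : L ⟶ M) (x : X)
    (h : ¬ Function.Surjective (RefHull.stalkMapₗ θ x)) (v : L.presheaf.stalk x) :
    ∃ (c : X.presheaf.stalk x) (g : M.presheaf.stalk x), RefHull.stalkMapₗ θ x v = c • g ∧
      c ∈ IsLocalRing.maximalIdeal (X.presheaf.stalk x) := by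
  obtain ⟨V, e, hxV, he⟩ := H11Ample.exists_gen hM x
  obtain ⟨c, hc⟩ := (he x hxV).2 (RefHull.stalkMapₗ θ x v)
  refine ⟨c, _, hc.symm, (IsLocalRing.mem_maximalIdeal c).2 fun hu => h fun z => ?_⟩
  obtain ⟨d, rfl⟩ := (he x hxV).2 z
  refine ⟨(d * ↑hu.unit⁻¹) • v, ?_⟩
  rw [map_smul, ← hc, smul_smul, mul_assoc, IsUnit.val_inv_mul, mul_one]

variable {k : Type u} [Field k] [IsAlgClosed k] {n : ℕ}

/-- A rank two quotient of three line bundles on projective space of dimension at least three splits. -/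
theorem splits_of_three (hn : 3 ≤ n) (e₀ e₁ e₂ : ℤ) (E : (CohB1.ProjSpace n k).Modules)
    (hE : FlatMod.IsFinLocFreeOfRank 2 E)
    (q : Twist.twistProjSpace n k e₀ ⊞ (Twist.twistProjSpace n k e₁ ⊞ Twist.twistProjSpace n k e₂) ⟶ E) [Epi q] :
    ∃ a b : ℤ, Nonempty (E ≅ Twist.twistProjSpace n k a ⊞ Twist.twistProjSpace n k b) := by
  haveI : IsProper (CohB1.ProjSpace.toSpec n k) := H27Weil.isProper_toSpec n k
  haveI : IsLocallyNoetherian (CohB1.ProjSpace n k) :=
    LocallyOfFiniteType.isLocallyNoetherian (CohB1.ProjSpace.toSpec n k)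
  have hT := H10Coh.Stab.isTwistFamily_projSpace n k
  let A := Twist.twistProjSpace n k e₀
  let B := Twist.twistProjSpace n k e₁
  let C := Twist.twistProjSpace n k e₂
  let M := A ⊞ (B ⊞ C)
  have hf : ∀ a, FlatMod.IsFinLocFree (Twist.twistProjSpace n k a) := fun a => H28Pinch.isFinLocFree_of_isInvertible (hT.inv a)
  have hBC := H16Derived.KFlat.Stalk.isFinLocFree_biprod (hf e₁) (hf e₂)
  have hMf : FlatMod.IsFinLocFree M := H16Derived.KFlat.Stalk.isFinLocFree_biprod (hf e₀) hBC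
  have hEf : FlatMod.IsFinLocFree E := fun y => let ⟨U, hU⟩ := hE y; ⟨U, 2, hU⟩
  have hK : FlatMod.IsFinLocFree (kernel q) := H10Coh.Tw.isFinLocFree_kernel q hMf hEf
  have hS : (ShortComplex.mk (kernel.ι q) q (kernel.condition q)).ShortExact :=
    { exact := ShortComplex.exact_kernel _
      mono_f := inferInstanceAs (Mono (kernel.ι q))
      epi_g := ‹Epi q› }
  have hfree : ∀ a x, Module.Free ((CohB1.ProjSpace n k).presheaf.stalk x) ((Twist.twistProjSpace n k a).presheaf.stalk x) ∧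
      Module.Finite ((CohB1.ProjSpace n k).presheaf.stalk x) ((Twist.twistProjSpace n k a).presheaf.stalk x) ∧
      Module.finrank ((CohB1.ProjSpace n k).presheaf.stalk x) ((Twist.twistProjSpace n k a).presheaf.stalk x) = 1 :=
    fun a x => H25Par.finrank_stalk (H29RR.rank_one_of_isInvertible (hT.inv a)) x
  have hKi : PicF.IsInvertible (kernel q) := fun x => by
    obtain ⟨fA, gA, rA⟩ := hfree e₀ x
    obtain ⟨fB, gB, rB⟩ := hfree e₁ x
    obtain ⟨fC, gC, rC⟩ := hfree e₂ x
    obtain ⟨fE, gE, rE⟩ := H25Par.finrank_stalk hE x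
    haveI : Module.Free _ (A.presheaf.stalk x) := fA
    haveI : Module.Finite _ (A.presheaf.stalk x) := gA
    haveI : Module.Free _ (B.presheaf.stalk x) := fB
    haveI : Module.Finite _ (B.presheaf.stalk x) := gB
    haveI : Module.Free _ (C.presheaf.stalk x) := fC
    haveI : Module.Finite _ (C.presheaf.stalk x) := gC
    haveI : Module.Free _ (E.presheaf.stalk x) := fE
    haveI : Module.Finite _ (E.presheaf.stalk x) := gE
    obtain ⟨U, r, hxU, hU⟩ := hK x
    obtain ⟨bK⟩ := H8Props.FunDescent.stalkFree_of_isFreeOfRankNear _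
      (H8Props.FinLocFree.isQCoh_of_isFinLocFree _ hK) ⟨U, hxU, hU⟩
    obtain ⟨V, r', hxV, hV⟩ := hBC x
    obtain ⟨bBC⟩ := H8Props.FunDescent.stalkFree_of_isFreeOfRankNear _
      (H8Props.FinLocFree.isQCoh_of_isFinLocFree _ hBC) ⟨V, hxV, hV⟩
    haveI : Module.Free _ ((B ⊞ C).presheaf.stalk x) := Module.Free.of_basis bBC
    haveI : Module.Finite _ ((B ⊞ C).presheaf.stalk x) := Module.Finite.of_basis bBC
    haveI : Module.Free _ ((kernel q).presheaf.stalk x) := Module.Free.of_basis bK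
    haveI : Module.Finite _ ((kernel q).presheaf.stalk x) := Module.Finite.of_basis bK
    let R := (CohB1.ProjSpace n k).presheaf.stalk x
    have h1 : Module.finrank R ((B ⊞ C).presheaf.stalk x) =
        Module.finrank R (B.presheaf.stalk x) + Module.finrank R (C.presheaf.stalk x) :=
      finrank_mid ((ShortComplex.Splitting.ofHasBinaryBiproduct B C).shortExact) x
    have h2 : Module.finrank R (M.presheaf.stalk x) =
        Module.finrank R (A.presheaf.stalk x) + Module.finrank R ((B ⊞ C).presheaf.stalk x) :=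
      finrank_mid ((ShortComplex.Splitting.ofHasBinaryBiproduct A (B ⊞ C)).shortExact) x
    have h3 : Module.finrank R (M.presheaf.stalk x) =
        Module.finrank R ((kernel q).presheaf.stalk x) + Module.finrank R (E.presheaf.stalk x) :=
      finrank_mid hS x
    have rA' : Module.finrank R (A.presheaf.stalk x) = 1 := rA
    have rB' : Module.finrank R (B.presheaf.stalk x) = 1 := rB
    have rC' : Module.finrank R (C.presheaf.stalk x) = 1 := rC
    have rE' : Module.finrank R (E.presheaf.stalk x) = 2 := rE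
    have hr := Module.finrank_eq_card_basis bK
    rw [Fintype.card_fin] at hr
    have hr' : Module.finrank R ((kernel q).presheaf.stalk x) = r := hr
    have h4 : r = 1 := by omega
    subst h4
    exact H29Ref.exists_iso_of_isFreeOfRankNear_one _ x ⟨U, hxU, hU⟩
  obtain ⟨m, ⟨i₀⟩⟩ := LeadPic.Pn.exists_iso_twist n k hKi
  let i : kernel q ≅ Twist.twistProjSpace n k m := i₀
  let f : Twist.twistProjSpace n k m ⟶ M := i.inv ≫ kernel.ι q
  have hS' : (ShortComplex.mk f q (by rw [Category.assoc, kernel.condition, comp_zero])).ShortExact :=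
    let j : ShortComplex.mk (kernel.ι q) q (kernel.condition q) ≅ ShortComplex.mk f q (by rw [Category.assoc, kernel.condition, comp_zero]) :=
      ShortComplex.isoMk i (Iso.refl _) (Iso.refl _) (by simp [f]) ((Category.id_comp _).trans (Category.comp_id _).symm)
    ShortComplex.shortExact_of_iso j hS
  rcases isIso_or_affine (k := k) (n := n) (by omega) (f ≫ biprod.fst) with h | ⟨U₀, hU₀, h₀⟩
  · haveI : IsIso (f ≫ (Iso.refl M).hom ≫ biprod.fst) := by simpa using h
    obtain ⟨g⟩ := nonempty_iso_of_component hS' (Iso.refl M)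
    exact ⟨e₁, e₂, ⟨g.symm⟩⟩
  rcases isIso_or_affine (k := k) (n := n) (by omega) (f ≫ biprod.snd ≫ biprod.fst) with h | ⟨U₁, hU₁, h₁⟩
  · let d : M ≅ B ⊞ (A ⊞ C) :=
      { hom := biprod.lift (biprod.snd ≫ biprod.fst) (biprod.lift biprod.fst (biprod.snd ≫ biprod.snd))
        inv := biprod.desc (biprod.inl ≫ biprod.inr) (biprod.desc biprod.inl (biprod.inr ≫ biprod.inr))
        hom_inv_id := by (repeat' first | apply biprod.hom_ext | apply biprod.hom_ext') <;> simp
        inv_hom_id := by (repeat' first | apply biprod.hom_ext | apply biprod.hom_ext') <;> simp }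
    haveI : IsIso (f ≫ d.hom ≫ biprod.fst) := by simpa [d] using h
    obtain ⟨g⟩ := nonempty_iso_of_component hS' d
    exact ⟨e₀, e₂, ⟨g.symm⟩⟩
  rcases isIso_or_affine (k := k) (n := n) (by omega) (f ≫ biprod.snd ≫ biprod.snd) with h | ⟨U₂, hU₂, h₂⟩
  · let d : M ≅ C ⊞ (A ⊞ B) :=
      { hom := biprod.lift (biprod.snd ≫ biprod.snd) (biprod.lift biprod.fst (biprod.snd ≫ biprod.fst))
        inv := biprod.desc (biprod.inr ≫ biprod.inr) (biprod.desc biprod.inl (biprod.inl ≫ biprod.inr))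
        hom_inv_id := by (repeat' first | apply biprod.hom_ext | apply biprod.hom_ext') <;> simp
        inv_hom_id := by (repeat' first | apply biprod.hom_ext | apply biprod.hom_ext') <;> simp }
    haveI : IsIso (f ≫ d.hom ≫ biprod.fst) := by simpa [d] using h
    obtain ⟨g⟩ := nonempty_iso_of_component hS' d
    exact ⟨e₀, e₁, ⟨g.symm⟩⟩
  exfalso
  obtain ⟨x, hx⟩ := exists_notMem_three hn ![U₀, U₁, U₂] (fun i => by fin_cases i <;> assumption)
  obtain ⟨fE, gE, -⟩ := H25Par.finrank_stalk hE x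
  haveI : Module.Free _ (E.presheaf.stalk x) := fE
  obtain ⟨s, hs⟩ := Module.projective_lifting_property (stalkLin q x) LinearMap.id (stalk_surjective _ hS' x)
  obtain ⟨r, hr⟩ : ∃ r, r ∘ₗ stalkLin f x = LinearMap.id :=
    (((stalk_exact _ hS' x).split_tfae (stalk_injective _ hS' x) (stalk_surjective _ hS' x)).out 0 1).1
      (⟨s, hs⟩ : ∃ l, stalkLin q x ∘ₗ l = LinearMap.id)
  obtain ⟨V, eV, hxV, heV⟩ := H11Ample.exists_gen (hT.inv m) x
  let v := (Twist.twistProjSpace n k m).presheaf.germ V x hxV eV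
  obtain ⟨c₀, g₀, hc₀, hm₀⟩ := coeff_of_not_surjective (hT.inv e₀) (f ≫ biprod.fst) x (fun h => hx 0 (h₀ x h)) v
  obtain ⟨c₁, g₁, hc₁, hm₁⟩ :=
    coeff_of_not_surjective (hT.inv e₁) (f ≫ biprod.snd ≫ biprod.fst) x (fun h => hx 1 (h₁ x h)) v
  obtain ⟨c₂, g₂, hc₂, hm₂⟩ :=
    coeff_of_not_surjective (hT.inv e₂) (f ≫ biprod.snd ≫ biprod.snd) x (fun h => hx 2 (h₂ x h)) v
  have htot : f = (f ≫ biprod.fst) ≫ biprod.inl + ((f ≫ biprod.snd ≫ biprod.fst) ≫ biprod.inl ≫ biprod.inr +
      (f ≫ biprod.snd ≫ biprod.snd) ≫ biprod.inr ≫ biprod.inr) := by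
    refine biprod.hom_ext _ _ ?_ (biprod.hom_ext _ _ ?_ ?_) <;> simp
  have hmap : ∀ {L N : (CohB1.ProjSpace n k).Modules} (a : L ⟶ N) w, stalkLin a x w = RefHull.stalkMapₗ a x w :=
    fun a w => rfl
  let coe : ∀ (L : (CohB1.ProjSpace n k).Modules) (a : L ⟶ M) (g : L.presheaf.stalk x),
      ∃ t : (CohB1.ProjSpace n k).presheaf.stalk x, r (stalkLin a x g) = t • v := fun L a g =>
    let ⟨t, ht⟩ := (heV x hxV).2 (r (stalkLin a x g)); ⟨t, ht.symm⟩
  obtain ⟨t₀, ht₀⟩ := coe _ biprod.inl g₀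
  obtain ⟨t₁, ht₁⟩ := coe _ (biprod.inl ≫ biprod.inr) g₁
  obtain ⟨t₂, ht₂⟩ := coe _ (biprod.inr ≫ biprod.inr) g₂
  have hv : stalkLin f x v = c₀ • stalkLin biprod.inl x g₀ + (c₁ • stalkLin (biprod.inl ≫ biprod.inr) x g₁ +
      c₂ • stalkLin (biprod.inr ≫ biprod.inr) x g₂) := by
    conv_lhs => rw [htot]
    rw [Tango.stalkLin_add, LinearMap.add_apply, Tango.stalkLin_add, LinearMap.add_apply,
      H29Omega.stalkLin_comp, H29Omega.stalkLin_comp (f ≫ biprod.snd ≫ biprod.fst),
      H29Omega.stalkLin_comp (f ≫ biprod.snd ≫ biprod.snd), hmap (f ≫ biprod.fst), hc₀,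
      hmap (f ≫ biprod.snd ≫ biprod.fst), hc₁, hmap (f ≫ biprod.snd ≫ biprod.snd), hc₂, map_smul, map_smul, map_smul]
  have h1 := LinearMap.congr_fun hr v
  rw [LinearMap.comp_apply, LinearMap.id_apply, hv, map_add, map_add, map_smul, map_smul, map_smul, ht₀, ht₁, ht₂,
    smul_smul, smul_smul, smul_smul, ← add_smul, ← add_smul] at h1
  have h2 : c₀ * t₀ + (c₁ * t₁ + c₂ * t₂) = 1 :=
    (heV x hxV).1 (show _ • v = (1 : (CohB1.ProjSpace n k).presheaf.stalk x) • v by rw [one_smul]; exact h1)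
  refine (IsLocalRing.maximalIdeal.isMaximal ((CohB1.ProjSpace n k).presheaf.stalk x)).ne_top
    ((Ideal.eq_top_iff_one _).2 (h2 ▸ ?_))
  exact Ideal.add_mem _ (Ideal.mul_mem_right _ _ hm₀)
    (Ideal.add_mem _ (Ideal.mul_mem_right _ _ hm₁) (Ideal.mul_mem_right _ _ hm₂))

end Groth.Agent.H02CA.CI
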